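import Groth.Agent.Lib.BddFin29.Gm
import Groth.Agent.Lib.GrpFin20.Kernel
import Groth.Agent.Lib.AbRigid.Maximal
import Groth.Agent.Lib.AbRigid.FactorEtale
import Groth.Agent.Lib.WtMu19.Op
import Mathlib.RingTheory.DedekindDomain.Dvr
import Mathlib.RingTheory.RootsOfUnity.EnoughRootsOfUnity
import Mathlib.AlgebraicGeometry.AlgClosed.Basic

/-!
# Homomorphisms from the multiplicative group to proper groups are trivial
-/

set_option autoImplicit false
set_option linter.style.haveILetI false
set_option backward.isDefEq.respectTransparency.types false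
set_option linter.unusedSectionVars false

universe u

open CategoryTheory Limits MonoidalCategory CartesianMonoidalCategory MonObj AlgebraicGeometry

namespace Groth.Agent.GmAV19

variable {K : Type u} [Field K]

local notation "S₀" => Spec (CommRingCat.of K)
local notation "Gₘ" => Red.Gm (Spec (CommRingCat.of K))

theorem exists_homeo : ∃ h : Spec (CommRingCat.of (BddFin29.Lz K)) ⟶ (Gₘ).left, IsIso h := by
  obtain ⟨f, hf, -⟩ := BddFin29.exists_coord_gm (K := K)
  exact ⟨f.left, inferInstanceAs (IsIso ((Over.forget _).map f))⟩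

theorem irreducibleSpace_gm : IrreducibleSpace (Gₘ).left := by
  obtain ⟨h, _⟩ := exists_homeo (K := K)
  haveI : IrreducibleSpace (Spec (CommRingCat.of (BddFin29.Lz K))) :=
    inferInstanceAs (IrreducibleSpace (PrimeSpectrum (BddFin29.Lz K)))
  refine (irreducibleSpace_def _).2 ?_
  show IsIrreducible (Set.univ : Set (Gₘ).left)
  rw [← Set.range_eq_univ.2 h.surjective, ← Set.image_univ]
  exact (irreducibleSpace_def _).1 inferInstance |>.image _ h.continuous.continuousOn

theorem isReduced_gm : IsReduced (Gₘ).left := by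
  obtain ⟨h, _⟩ := exists_homeo (K := K)
  exact isReduced_of_isOpenImmersion (inv h)

/-- A closed subset of the multiplicative group other than the whole of it is finite. -/
theorem finite_of_isClosed {Z : Set (Gₘ).left} (hZ : IsClosed Z) (hne : Z ≠ Set.univ) : Z.Finite := by
  obtain ⟨h, _⟩ := exists_homeo (K := K)
  haveI : IsDedekindDomain (BddFin29.Lz K) :=
    IsLocalization.isDedekindDomain (Polynomial K)
      (powers_le_nonZeroDivisors_of_noZeroDivisors Polynomial.X_ne_zero) _
  let W : Set (PrimeSpectrum (BddFin29.Lz K)) := h ⁻¹' Z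
  suffices hW : W.Finite by
    exact Set.Finite.of_preimage hW h.surjective
  have hWc : IsClosed W := hZ.preimage h.continuous
  obtain ⟨I, hI⟩ := (PrimeSpectrum.isClosed_iff_zeroLocus_ideal W).1 hWc
  have hI0 : I ≠ ⊥ := by
    rintro rfl
    refine hne ?_
    have : W = Set.univ := by rw [hI, PrimeSpectrum.zeroLocus_bot]
    refine Set.eq_univ_of_forall fun z => ?_
    obtain ⟨w, rfl⟩ := h.surjective z
    exact (Set.eq_univ_iff_forall.1 this w :)
  refine Set.Finite.of_finite_image (f := PrimeSpectrum.asIdeal)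
    ((Ideal.finite_minimalPrimes_of_isNoetherianRing (BddFin29.Lz K) I).subset ?_)
    (fun p _ q _ hpq => PrimeSpectrum.ext hpq)
  rintro _ ⟨p, hp, rfl⟩
  rw [hI] at hp
  refine ⟨⟨p.2, hp⟩, fun q hq hqp => ?_⟩
  have hq0 : q ≠ ⊥ := fun h0 => hI0 (le_bot_iff.1 (h0 ▸ hq.2))
  rw [(hq.1.isMaximal hq0).eq_of_le p.2.ne_top hqp]

variable [IsAlgClosed K]

/-- The rational point with a given coordinate. -/
noncomputable def pt (c : Kˣ) : 𝟙_ (Over S₀) ⟶ Gₘ :=
  GmPts.ptOfUnit (Units.map (Scheme.ΓSpecIso (CommRingCat.of K)).inv.hom.toMonoidHom c)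

theorem pt_mul (a b : Kˣ) : pt (a * b) = pt a * pt b := by
  rw [pt, map_mul, GmPts.ptOfUnit_mul]
  rfl

theorem pt_one : pt (1 : Kˣ) = 1 := by
  rw [pt, map_one, GmPts.ptOfUnit_one]

theorem pt_pow (a : Kˣ) (n : ℕ) : pt (a ^ n) = pt a ^ n := by
  induction n with
  | zero => rw [pow_zero, pow_zero, pt_one]
  | succ n ih => rw [pow_succ, pow_succ, pt_mul, ih]

theorem apply_pt_injective :
    Function.Injective fun c : Kˣ => (pt c).left (IsLocalRing.closedPoint K) := by
  intro a b h
  haveI : IsSeparated (Gₘ).hom := AbRigid.isSeparated_of_grpObj _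
  haveI : LocallyOfFiniteType (Gₘ).hom := by
    obtain ⟨f, _, -⟩ := BddFin29.exists_coord_gm (K := K)
    haveI : LocallyOfFiniteType (BddFin29.sp K (BddFin29.Lz K)).hom := by
      refine (HasRingHomProperty.Spec_iff (P := @LocallyOfFiniteType)).2 ?_
      exact RingHom.finiteType_algebraMap.2 inferInstance
    haveI : IsIso (inv f).left := inferInstanceAs (IsIso ((Over.forget _).map (inv f)))
    rw [← Over.w (inv f)]
    infer_instance
  have e : pt a = pt b := Over.OverMorphism.ext
    (ext_of_apply_closedPoint_eq (Gₘ).hom (Over.w (pt a)) (Over.w (pt b)) h)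
  have e' := congrArg Red.gmFn e
  simp only [pt, GmPts.gmFn_ptOfUnit, Units.coe_map] at e'
  exact Units.ext ((ConcreteCategory.bijective_of_isIso (Scheme.ΓSpecIso (CommRingCat.of K)).inv).1 e')

/-- The roots of unity of order prime to the characteristic are infinite in number. -/
theorem infinite_rootsOfUnity : {c : Kˣ | ∃ n : ℕ, (n : K) ≠ 0 ∧ c ^ n = 1}.Infinite := by
  classical
  intro hfin
  obtain ⟨N, hN, hNK⟩ : ∃ N, hfin.toFinset.card < N ∧ (N : K) ≠ 0 := by
    by_cases h : ((hfin.toFinset.card + 1 : ℕ) : K) = 0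
    · refine ⟨hfin.toFinset.card + 2, by omega, fun h2 => one_ne_zero (α := K) ?_⟩
      have e : ((hfin.toFinset.card + 2 : ℕ) : K) = ((hfin.toFinset.card + 1 : ℕ) : K) + 1 := by
        push_cast; ring
      rwa [e, h, zero_add] at h2
    · exact ⟨_, by omega, h⟩
  haveI : NeZero (N : K) := ⟨hNK⟩
  haveI : NeZero N := ⟨fun h => hNK (by simp [h])⟩
  obtain ⟨ζ, hζ⟩ := HasEnoughRootsOfUnity.exists_primitiveRoot K N
  have hu := (hζ.isUnit (NeZero.ne N))
  have hζ' : IsPrimitiveRoot hu.unit N := IsPrimitiveRoot.coe_units_iff.1 hζ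
  have hsub : (Finset.range N).image (fun i => hu.unit ^ i) ⊆ hfin.toFinset := by
    intro c hc
    obtain ⟨i, -, rfl⟩ := Finset.mem_image.1 hc
    rw [Set.Finite.mem_toFinset]
    exact ⟨N, hNK, by rw [← pow_mul, mul_comm, pow_mul, hζ'.pow_eq_one, one_pow]⟩
  have := Finset.card_le_card hsub
  rw [Finset.card_image_of_injOn (fun i hi j hj h => hζ'.pow_inj (Finset.mem_range.1 hi) (Finset.mem_range.1 hj) h),
    Finset.card_range] at this
  omega

/-- The torsion points of order prime to the characteristic are dense. -/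
theorem dense_torsion :
    Dense ((fun c : Kˣ => (pt c).left (IsLocalRing.closedPoint K)) '' {c | ∃ n : ℕ, (n : K) ≠ 0 ∧ c ^ n = 1}) := by
  rw [dense_iff_closure_eq]
  by_contra h
  exact (infinite_rootsOfUnity (K := K)).image (apply_pt_injective.injOn)
    ((finite_of_isClosed isClosed_closure h).subset subset_closure)

/-- A homomorphism from the multiplicative group to a proper group is trivial. -/
theorem eq_one_of_proper (E : Over S₀) [GrpObj E] [IsProper E.hom] (f : Gₘ ⟶ E) [IsMonHom f] : f = 1 := by
  haveI := irreducibleSpace_gm (K := K)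
  haveI := isReduced_gm (K := K)
  haveI := WtMu19.isAffine_Gm (k := K)
  haveI : LocallyOfFiniteType (Gₘ).hom := by
    obtain ⟨g, _, -⟩ := BddFin29.exists_coord_gm (K := K)
    haveI : LocallyOfFiniteType (BddFin29.sp K (BddFin29.Lz K)).hom := by
      refine (HasRingHomProperty.Spec_iff (P := @LocallyOfFiniteType)).2 ?_
      exact RingHom.finiteType_algebraMap.2 inferInstance
    haveI : IsIso (inv g).left := inferInstanceAs (IsIso ((Over.forget _).map (inv g)))
    rw [← Over.w (inv g)]
    infer_instance
  haveI : IsSeparated E.hom := inferInstance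
  haveI : LocallyOfFiniteType (f.left ≫ E.hom) := by rw [Over.w]; infer_instance
  let e : E.left := η[E].left (AbRigid.pt₀ K)
  have hec : IsClosed ({e} : Set E.left) := by
    have h := AbRigid.isClosed_image_point (Z := E) (η[E])
    simpa [e] using h
  let Z : Set (Gₘ).left := f.left ⁻¹' {e}
  have hZ : IsClosed Z := hec.preimage f.left.continuous
  by_cases hu : Z = Set.univ
  · ext1
    refine ext_of_apply_eq E.hom Set.univ isOpen_univ.isLocallyClosed dense_univ (fun x _ _ => ?_)
      ((Over.w f).trans (Over.w (1 : Gₘ ⟶ E)).symm)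
    have hx : f.left x = e := (Set.eq_univ_iff_forall.1 hu x :)
    rw [hx, Hom.one_def, Over.comp_left, Scheme.Hom.comp_apply]
    exact congrArg _ (Subsingleton.elim (α := PrimeSpectrum K) _ _)
  exfalso
  have hfin := finite_of_isClosed hZ hu
  have hd : _root_.IsDiscrete Z := by
    rw [isDiscrete_iff_discreteTopology]
    haveI : Finite Z := hfin.to_subtype
    haveI : JacobsonSpace (Gₘ).left := LocallyOfFiniteType.jacobsonSpace (Gₘ).hom
    have hcp : Z ⊆ closedPoints (Gₘ).left := by
      have hfc : IsClosed (Z ∩ closedPoints (Gₘ).left) := by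
        have hf' : (Z ∩ closedPoints (Gₘ).left).Finite := hfin.inter_of_left _
        rw [← Set.biUnion_of_singleton (Z ∩ closedPoints (Gₘ).left)]
        exact hf'.isClosed_biUnion fun x hx => hx.2
      have h := JacobsonSpace.closure_inter_closedPoints_eq_closure hZ.isLocallyClosed
      rw [hfc.closure_eq, hZ.closure_eq] at h
      exact h ▸ Set.inter_subset_right
    haveI : T1Space Z := ⟨fun z => by
      have hz : IsClosed ({(z : (Gₘ).left)} : Set (Gₘ).left) := hcp z.2
      have : ({z} : Set Z) = Subtype.val ⁻¹' {(z : (Gₘ).left)} := by ext w; simp [Subtype.ext_iff]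
      rw [this]
      exact hz.preimage continuous_subtype_val⟩
    infer_instance
  haveI : LocallyQuasiFinite f.left := GrpFin20.locallyQuasiFinite_of_isAlgClosed (Gₘ) E f hd
  haveI : QuasiCompact f.left := QuasiCompact.of_comp f.left E.hom
  haveI := GrpFin20.isFinite_of_isAlgClosed (Gₘ) E f
  haveI : IsProper (Gₘ).hom := by rw [← Over.w f]; infer_instance
  haveI : IsFinite (Gₘ).hom := IsFinite.iff_isProper_and_isAffineHom.2 ⟨inferInstance, isAffineHom_of_isAffine _⟩
  have hall : (Set.univ : Set (Gₘ).left).Finite := by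
    have h := (Gₘ).hom.finite_preimage_singleton (IsLocalRing.closedPoint K)
    exact h.subset fun x _ => Subsingleton.elim (α := PrimeSpectrum K) _ _
  exact (infinite_rootsOfUnity (K := K)).image apply_pt_injective.injOn (hall.subset (Set.subset_univ _))

end Groth.Agent.GmAV19
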